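import Groth.Prelude.Def_W4c1extbt15Mult

/-! Coordinates of points of powers. -/

set_option autoImplicit false

universe v u

open CategoryTheory MonoidalCategory CartesianMonoidalCategory MonObj

namespace Groth.Agent.MultLocal

open MultSch

variable {C : Type u} [Category.{v} C] [CartesianMonoidalCategory C] [BraidedCategory C]

/-- The coordinates. -/
def proj (M : C) : (n : ℕ) → Fin n → (pow M n ⟶ M)
  | 0, i => i.elim0
  | n + 1, i => Fin.cases (fst M (pow M n)) (fun k => snd M (pow M n) ≫ proj M n k) i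

lemma tuple_proj {M T : C} : ∀ {n : ℕ} (x : Fin n → (T ⟶ M)) (i : Fin n), tuple x ≫ proj M n i = x i
  | 0, _, i => i.elim0
  | n + 1, x, i => by
    refine Fin.cases ?_ (fun k => ?_) i
    · exact lift_fst _ _
    · show tuple x ≫ snd M (pow M n) ≫ proj M n k = _
      rw [← Category.assoc]
      exact (congrArg (· ≫ proj M n k) (lift_snd _ _)).trans (tuple_proj _ k)

lemma tuple_comp_proj {M T : C} : ∀ {n : ℕ} (e : T ⟶ pow M n), tuple (fun i => e ≫ proj M n i) = e
  | 0, e => toUnit_unique _ _
  | n + 1, e => by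
    show lift (e ≫ fst M (pow M n)) (tuple fun k => e ≫ snd M (pow M n) ≫ proj M n k) = e
    simp only [← Category.assoc]
    rw [tuple_comp_proj (e ≫ snd M (pow M n))]
    exact CartesianMonoidalCategory.hom_ext _ _ (lift_fst _ _) (lift_snd _ _)

lemma comp_tuple {M T T' : C} {n : ℕ} (f : T' ⟶ T) (x : Fin n → (T ⟶ M)) :
    f ≫ tuple x = tuple (fun i => f ≫ x i) := by
  conv_rhs => arg 1; ext i; rw [← tuple_proj x i, ← Category.assoc]
  exact (tuple_comp_proj _).symm

lemma comp_update {M T T' : C} {n : ℕ} (f : T' ⟶ T) (x : Fin n → (T ⟶ M)) (i : Fin n) (y : T ⟶ M) :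
    (fun k => f ≫ Function.update x i y k) = Function.update (fun k => f ≫ x k) i (f ≫ y) := by
  funext k
  exact Function.apply_update (fun _ z => f ≫ z) x i y k

variable {M N : C} [GrpObj M] [GrpObj N] {n : ℕ}

lemma mult_one {φ : pow M n ⟶ N} (h : IsMultilinear φ) {T : C} (x : Fin n → (T ⟶ M)) (i : Fin n) :
    tuple (Function.update x i 1) ≫ φ = 1 := by
  have e := h T x i 1 1
  rw [_root_.one_mul (1 : T ⟶ M)] at e
  exact left_eq_mul.1 e

/-- Antisymmetry. -/
lemma alt_swap {φ : pow M n ⟶ N} (h : IsMultilinear φ) (ha : IsAlternating φ) {T : C} (x : Fin n → (T ⟶ M))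
    (i j : Fin n) (hij : i ≠ j) (a b : T ⟶ M) :
    (tuple (Function.update (Function.update x i a) j b) ≫ φ) *
      (tuple (Function.update (Function.update x i b) j a) ≫ φ) = 1 := by
  let P := fun u v : T ⟶ M => tuple (Function.update (Function.update x i u) j v) ≫ φ
  have hzero : ∀ u, P u u = 1 := fun u => ha T _ i j hij (by simp [Function.update_of_ne hij])
  have hr : ∀ u v w, P u (v * w) = P u v * P u w := fun u v w => h T _ j v w
  have hl : ∀ u v w, P (u * v) w = P u w * P v w := fun u v w => by
    simp only [P, Function.update_comm hij]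
    exact h T _ i u v
  show P a b * P b a = 1
  have h0 := hzero (a * b)
  rw [hl, hr, hr, hzero, hzero, _root_.one_mul, _root_.mul_one] at h0
  exact h0

end Groth.Agent.MultLocal
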